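import Cfsg.Agent.H454.Dl.Crit
import Cfsg.Agent.H246.Dl.Defs
import Cfsg.Agent.S0165
import Cfsg.Agent.Blocks.LocalRing
import Cfsg.Agent.Blocks.Basic

/-!
# Small tools (helper810, task 2520)
-/

set_option autoImplicit false

open Cfsg

namespace Cfsg.Agent.H810.Dl

open Cfsg.Agent.Blocks.LocalRing Cfsg.Agent.Blocks
open Cfsg.Agent.H454.DlCrit Cfsg.Agent.H246.Dl

universe u

/-- A character whose degree is divisible by the full power of `p` vanishes at the elements of order divisible by `p`. -/
theorem van {G : Type u} [Group G] [Finite G] {p : ℕ} (hp : p.Prime) (χ : IrrCharacter G) {a : ℕ}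
    (h1 : ¬ p ^ (a + 1) ∣ Nat.card G) (h2 : p ^ a ∣ charDegree (χ : G → ℂ)) {y : G} (hy : p ∣ orderOf y) :
    (χ : G → ℂ) y = 0 := by
  have := Fintype.ofFinite G
  have h3 : (Nat.card G).factorization p ≤ a := by
    by_contra hcon
    push Not at hcon
    exact h1 ((hp.pow_dvd_iff_le_factorization Nat.card_pos.ne').2 hcon)
  have h4 : p ^ (Nat.card G).factorization p ∣ charDegree (χ : G → ℂ) := (pow_dvd_pow p h3).trans h2
  obtain ⟨n, ρ, hρ, hχ⟩ := χ.2
  have h5 : charDegree (χ : G → ℂ) = n := by
    apply H670.PSing.charDegree_eq_of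
    rw [← hχ, Representation.char_one]
    simp
  rw [h5] at h4
  rw [← hχ]
  refine Cfsg.Agent.S0165.result ρ p ((Nat.card G).factorization p) hp (Nat.ordProj_dvd _ _)
    (Nat.pow_succ_factorization_not_dvd Nat.card_pos.ne' hp) ?_ y hy
  rw [Module.finrank_fin_fun]
  exact h4

/-- the central character at an element where the character vanishes -/
theorem memLocalIdeal_of_zero {G : Type u} [Group G] {p : ℕ} {M : Ideal AlgInt} (hM : IsPModular p M) {χ : G → ℂ}
    {x : G} (h : χ x = 0) : MemLocalIdeal M (centralChar χ x) := by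
  have : M.IsPrime := isPrime hM
  rw [Basic.centralChar_def, h, mul_zero, zero_div]
  exact Blocks.Local.memLocalIdeal_zero

/-- `Many` for a group with no outer automorphisms, from a set of characters. -/
theorem many_of_set {S : Type u} [Group S] [Finite S] {p m : ℕ} (ho : Nat.card (OutQ S) ≤ 1)
    (T : Set (IrrCharacter S)) (hT : ∀ χ ∈ T, p ∣ charDegree (χ : S → ℂ)) (hm : m ≤ T.ncard) : Many p S m := by
  classical
  have : Finite (IrrCharacter S) := Cfsg.Agent.Characters.Core.finite_irr
  rcases Nat.eq_zero_or_pos m with rfl | h0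
  · exact ⟨fun i => i.elim0, fun i => i.elim0, fun i => i.elim0⟩
  refine Many.of_card_irr (T.toFinite.toFinset) (fun χ hχ => hT χ ((Set.Finite.mem_toFinset _).1 hχ)) ?_
  rw [← Set.ncard_eq_toFinset_card]
  calc (m - 1) * Nat.card (OutQ S) ≤ (m - 1) * 1 := Nat.mul_le_mul_left _ ho
    _ = m - 1 := Nat.mul_one _
    _ < T.ncard := by omega

end Cfsg.Agent.H810.Dl
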