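import Cfsg.Agent.H810.Dl.BabyBlock
import Cfsg.Agent.H810.Dl.Tool
import Cfsg.Agent.H995.IMBRow
import Cfsg.Agent.H723.Pair.BChar
import Cfsg.Agent.H680.Dl.Hall
import Cfsg.Agent.H759.Dl.Small
import Cfsg.Agent.Blocks.ExistsModular
import Cfsg.Agent.S2084

/-!
# The row of the Baby Monster of `FactDl` (helper810, task 2520)

* `p = 2` : derived length at most 6 (`2 ^ 41`), the characters of degrees `9458750`, `4275362520`, `9287037474` and the
  three characters of the block `b_block`;
* `p = 3` : derived length at most 4 (`3 ^ 13`), degrees `4371`, `96255`, `4275362520`, `9287037474`;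
* `p = 5` : derived length at most 3 (`5 ^ 6`), degrees `96255`, `9458750`, `4275362520`.
-/

set_option autoImplicit false

open Cfsg

namespace Cfsg.Agent.H810.Dl

open Cfsg.Agent.Blocks.LocalRing Cfsg.Agent.Blocks
open Cfsg.Agent.H454.DlCrit Cfsg.Agent.H246.Dl Cfsg.Agent.H680.Dl Cfsg.Agent.H759.Dl
open Cfsg.Agent.H652.Four Cfsg.Agent.H648.Loc Cfsg.Agent.H995.IMB

universe u

/-- The characters of the scheme of degree `d`. -/
theorem deg_finset {S : Type u} [Group S] (h : Cfsg.Spor.IsoB S) {d : ℕ} (hd : d ∈ ds) :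
    ∃ χ : S → ℂ, IsIrrCharacter S χ ∧ χ 1 = d := by
  obtain ⟨χ, h1, -⟩ := deg_b h hd
  exact ⟨χ, χ.2, h1⟩

theorem deg_small {S : Type u} [Group S] (h : Cfsg.Spor.IsoB S) :
    ∃ χ : S → ℂ, IsIrrCharacter S χ ∧ χ 1 = (4371 : ℕ) := by
  obtain ⟨e⟩ := h
  obtain ⟨χ, h1, h2, -⟩ := H723.Pair.BChar.exists_chi
  refine ⟨χ ∘ e.toMonoidHom, Cfsg.Agent.Characters.Core.isIrr_comp e.toMonoidHom e.surjective h1, ?_⟩
  show χ (e.toMonoidHom 1) = _
  rw [map_one, h2]

/-- Six characters of even degree. -/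
theorem many_b_two : Many 2 Spor.BabyMonster 6 := by
  classical
  have hfin : Finite Spor.BabyMonster := CTwoTab.BInst.finite_B
  have hfinI : Finite (IrrCharacter Spor.BabyMonster) := Cfsg.Agent.Characters.Core.finite_irr
  have hB0 : Cfsg.Spor.IsoB Spor.BabyMonster := ⟨MulEquiv.refl _⟩
  obtain ⟨⟨x, hx⟩, -, -⟩ := b_main
  have hf2 : Fact (Nat.Prime 2) := ⟨Nat.prime_two⟩
  obtain ⟨M, hM⟩ := Cfsg.Agent.Blocks.Knorr.exists_isPModular 2
  obtain ⟨B, hB3, hB, -⟩ := b_block hM hx
  have h4 : ∀ χ ∈ B, 4 ∣ charDegree (χ : Spor.BabyMonster → ℂ) := fun χ hχ => by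
    have h1 : 2 ^ 2 ∣ (Subgroup.centralizer ({x} : Set Spor.BabyMonster)).index := by
      have := b_four hx
      norm_num
      exact this
    exact dvd_charDegree hM (hB χ hχ) h1
  obtain ⟨χ₁, -, h₁⟩ := deg_b hB0 (d := 9458750) (by unfold ds; simp)
  obtain ⟨χ₂, -, h₂⟩ := deg_b hB0 (d := 4275362520) (by unfold ds; simp)
  obtain ⟨χ₃, -, h₃⟩ := deg_b hB0 (d := 9287037474) (by unfold ds; simp)
  have n1 : χ₁ ∉ B := fun h => by
    have := h4 _ h
    rw [h₁] at this
    norm_num at this
  have n3 : χ₃ ∉ B := fun h => by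
    have := h4 _ h
    rw [h₃] at this
    norm_num at this
  have n2 : χ₂ ∉ B := fun h => by
    refine hB _ h (memLocalIdeal_of_zero hM (van (p := 13) (a := 1) (by norm_num) χ₂ ?_ ?_ ?_))
    · rw [card_b]; norm_num
    · rw [h₂]; norm_num
    · rw [hx]
  have n12 : χ₁ ≠ χ₂ := fun h => by rw [h, h₂] at h₁; norm_num at h₁
  have n13 : χ₁ ≠ χ₃ := fun h => by rw [h, h₃] at h₁; norm_num at h₁
  have n23 : χ₂ ≠ χ₃ := fun h => by rw [h, h₃] at h₂; norm_num at h₂
  have hout : Nat.card (OutQ Spor.BabyMonster) ≤ 1 := (Cfsg.Agent.S2084.result).le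
  refine many_of_set hout (insert χ₁ (insert χ₂ (insert χ₃ B))) ?_ ?_
  · intro χ hχ
    rcases hχ with rfl | rfl | rfl | h
    · rw [h₁]; norm_num
    · rw [h₂]; norm_num
    · rw [h₃]; norm_num
    · exact Dvd.dvd.trans (by norm_num) (h4 χ h)
  · rw [Set.ncard_insert_of_notMem, Set.ncard_insert_of_notMem, Set.ncard_insert_of_notMem n3]
    · have : Nat.card B = B.ncard := rfl
      omega
    · rintro (h | h)
      · exact n23 h
      · exact n2 h
    · rintro (h | h | h)
      · exact n12 h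
      · exact n13 h
      · exact n1 h

/-- **The row of the Baby Monster.** -/
theorem row_B (I : H671.H5.FactIM.{u}) : RowF.{u} (fun S => Spor.IsoB S) := by
  intro S _ _ _ h p hp hd
  have hfp : Fact p.Prime := ⟨hp⟩
  have hcard : Nat.card S = 4154781481226426191177580544000000 := card_of h
  have hc : ¬ IsMulCommutative S := by
    intro hcc
    let _ : CommGroup S := { (inferInstance : Group S) with mul_comm := fun a b => hcc.is_comm.comm a b }
    have hpr : (Nat.card S).Prime := IsSimpleGroup.prime_card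
    rw [hcard] at hpr
    norm_num at hpr
  have hmem : p ∈ ps := mem_ps hp (by rw [← hcard]; exact hd)
  unfold ps at hmem
  simp only [List.mem_cons, List.not_mem_nil, or_false] at hmem
  rcases hmem with rfl | rfl | rfl | rfl | rfl | rfl | rfl | rfl | rfl | rfl | rfl
  · have hdl : DlLe 2 6 S := (dlLe_of_card' (a := 41) (by rw [hcard]; norm_num)).2.2.2 (by norm_num)
    obtain ⟨e⟩ := h
    exact ⟨6, hdl, many_b_two.of_equiv e⟩
  · have hdl : DlLe 3 4 S := (dlLe_of_card' (a := 13) (by rw [hcard]; norm_num)).2.1 (by norm_num)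
    refine ⟨4, hdl, ?_⟩
    have h1 := Many.of_finset (p := 3) (S := S) (D := {4371, 96255, 4275362520, 9287037474}) ?_
    · exact h1
    · intro d hd'
      simp only [Finset.mem_insert, Finset.mem_singleton] at hd'
      rcases hd' with rfl | rfl | rfl | rfl
      · exact ⟨by norm_num, deg_small h⟩
      · exact ⟨by norm_num, deg_finset h (by unfold ds; simp)⟩
      · exact ⟨by norm_num, deg_finset h (by unfold ds; simp)⟩
      · exact ⟨by norm_num, deg_finset h (by unfold ds; simp)⟩
  · have hdl : DlLe 5 3 S := (dlLe_of_card' (a := 6) (by rw [hcard]; norm_num)).1 (by norm_num)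
    refine ⟨3, hdl, ?_⟩
    have h1 := Many.of_finset (p := 5) (S := S) (D := {96255, 9458750, 4275362520}) ?_
    · exact h1
    · intro d hd'
      simp only [Finset.mem_insert, Finset.mem_singleton] at hd'
      rcases hd' with rfl | rfl | rfl
      · exact ⟨by norm_num, deg_finset h (by unfold ds; simp)⟩
      · exact ⟨by norm_num, deg_finset h (by unfold ds; simp)⟩
      · exact ⟨by norm_num, deg_finset h (by unfold ds; simp)⟩
  all_goals exact row_of_card I hc (by norm_num) hd (by rw [hcard]; norm_num)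

end Cfsg.Agent.H810.Dl
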