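import Cfsg.Agent.H810.Dl.Sect
import Cfsg.Agent.H593.IMMonB

/-!
# Two characters of the Monster of degree divisible by 3 not vanishing at 17-singular elements (helper810, task 2520)
-/

set_option autoImplicit false
set_option maxRecDepth 100000

namespace Cfsg.Agent.H810.Dl

open Cfsg Cfsg.Agent.H593.IMMonA Cfsg.Agent.H593.IMMonB Cfsg.Agent.H810.Sect
open Cfsg.Agent.LThreeMB (XX Zx mk exists_mk mk_eq_mk mk_mul)
open Cfsg.Agent.BpSpor.MBigModel
open Subgroup (centralizer zpowers mem_centralizer_singleton_iff)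

/-- the elements `x`, `h`, `τ` -/
theorem exists_elts : ∃ x h t : MG, orderOf x = 3 ∧ orderOf h = 17 ∧ h * x = x * h ∧
    Nat.card (centralizer ({x * h} : Set MG)) ∣ 3 * 17 ∧ t ∈ Inv h ∧ t * x = x * t := by
  have := finite
  obtain ⟨x, n, hx, hn, ⟨e⟩⟩ := exists_fi24
  obtain ⟨X, hX, hC, hfull⟩ := Cfsg.Agent.H593.IMMonF.seventeen
  have hco : Nat.Coprime 17 (orderOf x) := by rw [hx]; norm_num
  obtain ⟨h, hhx, hmk, hh⟩ := exists_lift hco (y := e.symm X) (by rw [MulEquiv.orderOf_eq, hX]) (by norm_num)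
  have hco' : Nat.Coprime (orderOf h) (orderOf x) := by rw [hh]; exact hco
  have hcard : Nat.card (centralizer ({x * h} : Set MG)) ∣ 3 * 17 := by
    have h1 := card_cent_dvd hhx hco'
    rw [hx] at h1
    refine h1.trans (Nat.mul_dvd_mul_left 3 ?_)
    rw [hmk, ← card_cent_equiv]
    exact hC
  obtain ⟨b', hb'⟩ := hfull 16 (by norm_num)
  obtain ⟨b, hbx, hb⟩ := full_lift hco hh hhx (k := 16)
    ⟨e.symm b', by rw [hmk, ← map_mul, ← map_inv, ← map_mul, hb', map_pow]⟩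
  have hbh : b * h * b⁻¹ = h⁻¹ := by
    have h1 : h ^ 17 = 1 := by rw [← hh, pow_orderOf_eq_one]
    rw [hb, eq_inv_iff_mul_eq_one, ← pow_succ]
    exact h1
  have hcb : Commute b x := hbx
  have hcx : Commute h x := hhx
  -- `b²` commutes with `x h`
  have h2 : b ^ 2 ∈ centralizer ({x * h} : Set MG) := by
    rw [mem_centralizer_singleton_iff]
    have h3 : Commute (b ^ 2) x := hcb.pow_left 2
    have h4 : b ^ 2 * h * (b ^ 2)⁻¹ = h := by
      calc b ^ 2 * h * (b ^ 2)⁻¹ = b * (b * h * b⁻¹) * b⁻¹ := by rw [pow_two]; group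
        _ = b * h⁻¹ * b⁻¹ := by rw [hbh]
        _ = (b * h * b⁻¹)⁻¹ := by group
        _ = h := by rw [hbh, inv_inv]
    have h5 : Commute (b ^ 2) h := by
      show b ^ 2 * h = h * b ^ 2
      conv_rhs => rw [← h4]
      group
    exact (h3.mul_right h5).eq
  have h3 : b ^ 51 * b ^ 51 = 1 := by
    have h4 : orderOf (b ^ 2) ∣ 3 * 17 := (Subgroup.orderOf_dvd_natCard _ h2).trans hcard
    rw [orderOf_dvd_iff_pow_eq_one, ← pow_mul] at h4
    rw [← pow_add]
    exact h4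
  refine ⟨x, h, b ^ 51, hx, hh, hhx, hcard, ⟨h3, ?_⟩, (hcb.pow_left 51).eq⟩
  have h4 := Cfsg.Agent.H593.IMMonF.pow_conj_pow hb 51
  rw [h4, eq_inv_iff_mul_eq_one, ← pow_succ, ← orderOf_dvd_iff_pow_eq_one, hh]
  norm_num

/-- all involutions inverting `h` are conjugate to `z` -/
theorem conj_zz {h : MG} (hh : orderOf h = 17) : ∀ a ∈ Inv h, IsConj zz a := by
  rintro a ⟨ha, hah⟩
  have ha1 : a ≠ 1 := by
    rintro rfl
    rw [one_mul, inv_one, mul_one] at hah
    have h1 : h ^ 2 = 1 := by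
      rw [pow_two]
      nth_rewrite 1 [hah]
      group
    have h2 := orderOf_dvd_of_pow_eq_one h1
    rw [hh] at h2
    norm_num at h2
  rcases cl a ha ha1 with ⟨c, hc⟩ | hc
  · exact isConj_iff.2 ⟨c, hc⟩
  · exact absurd hc (not_conj_six six (by rw [hh]; decide) (by rw [hh]; norm_num) ha hah)

theorem m_pair : ∃ (χ ψ : IrrCharacter MG) (h y : MG), χ ≠ ψ ∧ 3 ∣ charDegree (χ : MG → ℂ) ∧
    3 ∣ charDegree (ψ : MG → ℂ) ∧ (χ : MG → ℂ) h ≠ 0 ∧ (ψ : MG → ℂ) y ≠ 0 ∧ 17 ∣ orderOf h ∧ 17 ∣ orderOf y := by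
  have := finite
  have : Fact (Nat.Prime 3) := ⟨by norm_num⟩
  have : Fact (Nat.Prime 17) := ⟨by norm_num⟩
  obtain ⟨x, h, t, hx, hh, hhx, hcard, ht, htx⟩ := exists_elts
  obtain ⟨χ, ψ, hne, h1, h2, h3, h4⟩ := two_chars (p := 3) (l := 17) (z := zz) (k := 20) (by norm_num) (by norm_num) hx hh hhx
    (by rw [card_M]; norm_num) hcard ht htx zz_sq (conj_zz hh) (by rw [card_M]; norm_num)
    (by rw [card_cent_z]; norm_num)
  refine ⟨χ, ψ, h, h * x, hne, h1, h2, h3, h4, by rw [hh], ?_⟩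
  rw [(show Commute h x from hhx).orderOf_mul_eq_mul_orderOf_of_coprime (by rw [hh, hx]; norm_num), hh]
  exact dvd_mul_right _ _

end Cfsg.Agent.H810.Dl
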