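import Cfsg.Agent.H810.Dl.MTwo
import Cfsg.Agent.H810.Dl.MThree
import Cfsg.Agent.H680.Dl.Hall
import Cfsg.Agent.H759.Dl.Small

/-!
# The row of the Monster of `FactDl` (helper810, task 2520)

* `p = 2` : derived length at most 6 (`2 ^ 46`), `many_m_two`;
* `p = 3` : derived length at most 4 (`3 ^ 20`), the characters of degrees `36173193327999`, `49609712911192813665`, which
  vanish at the elements of order divisible by 17, and the characters of `m_pair`;
* `p = 5` : derived length at most 3 (`5 ^ 9`), degrees `1109944460516150`, `251098487132187500`, `49609712911192813665`;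
* `p = 7` : derived length at most 3 (`7 ^ 6`), degrees `18538750076`, `36173193327999`, `1109944460516150`;
* `p = 13` : derived length at most 2, `FactTwo`.
-/

set_option autoImplicit false

open Cfsg

namespace Cfsg.Agent.H810.Dl

open Cfsg.Agent.H454.DlCrit Cfsg.Agent.H246.Dl Cfsg.Agent.H680.Dl Cfsg.Agent.H759.Dl
open Cfsg.Agent.BpSpor.MBigModel

universe u

/-- **Four characters of the Monster of degree divisible by 3.** -/
theorem many_m_three {S : Type u} [Group S] [Finite S] (h : Cfsg.Spor.IsoM S) : Many 3 S 4 := by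
  classical
  obtain ⟨e⟩ := h
  obtain ⟨f⟩ : Nonempty (Spor.Monster ≃* MG) := Cfsg.Agent.MonsterP.Equiv.equiv
  have := finite
  have hfM : Finite Spor.Monster := Finite.of_equiv _ f.symm.toEquiv
  have hh : Cfsg.Spor.IsoM MG := ⟨f.symm⟩
  obtain ⟨χ, ψ, a, b, hne, hχ, hψ, hχa, hψb, h17a, h17b⟩ := m_pair
  obtain ⟨χ₁, i₁, h₁⟩ := H816.IMM.exists_chi_36173193327999 hh
  obtain ⟨χ₂, i₂, h₂⟩ := H816.IMM.exists_chi_49609712911192813665 hh
  obtain ⟨ψ₁, hψ₁⟩ : ∃ ψ : IrrCharacter MG, charDegree (ψ : MG → ℂ) = 36173193327999 :=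
    ⟨⟨χ₁, i₁⟩, H670.PSing.charDegree_eq_of (h₁.trans (by norm_num))⟩
  obtain ⟨ψ₂, hψ₂⟩ : ∃ ψ : IrrCharacter MG, charDegree (ψ : MG → ℂ) = 49609712911192813665 :=
    ⟨⟨χ₂, i₂⟩, H670.PSing.charDegree_eq_of (h₂.trans (by norm_num))⟩
  have v1 : ∀ y : MG, 17 ∣ orderOf y → (ψ₁ : MG → ℂ) y = 0 := fun y hy =>
    van (p := 17) (a := 1) (by norm_num) ψ₁ (by rw [card_M]; norm_num) (by rw [hψ₁]; norm_num) hy
  have v2 : ∀ y : MG, 17 ∣ orderOf y → (ψ₂ : MG → ℂ) y = 0 := fun y hy =>
    van (p := 17) (a := 1) (by norm_num) ψ₂ (by rw [card_M]; norm_num) (by rw [hψ₂]; norm_num) hy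
  have n12 : ψ₁ ≠ ψ₂ := fun h => by rw [h, hψ₂] at hψ₁; norm_num at hψ₁
  have hout : Nat.card (OutQ MG) ≤ 1 := out_le_of_equiv f.symm (Cfsg.Agent.S2085.result).le
  have hmany : Many 3 MG 4 := by
    refine many_of_set hout ({ψ₁, ψ₂, χ, ψ} : Set (IrrCharacter MG)) ?_ ?_
    · intro θ hθ
      rcases hθ with rfl | rfl | rfl | h
      · rw [hψ₁]; norm_num
      · rw [hψ₂]; norm_num
      · exact hχ
      · rw [Set.mem_singleton_iff.1 h]; exact hψ
    · rw [Set.ncard_insert_of_notMem, Set.ncard_insert_of_notMem, Set.ncard_pair hne]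
      · rintro (h | h)
        · exact hχa (by rw [← h]; exact v2 a h17a)
        · exact hψb (by rw [← Set.mem_singleton_iff.1 h]; exact v2 b h17b)
      · rintro (h | h | h)
        · exact n12 h
        · exact hχa (by rw [← h]; exact v1 a h17a)
        · exact hψb (by rw [← Set.mem_singleton_iff.1 h]; exact v1 b h17b)
  exact hmany.of_equiv (e.trans f)

set_option maxHeartbeats 1000000 in
/-- **The row of the Monster.** -/
theorem row_M (T : H596.OneFacts.FactTwo.{u}) (I : H671.H5.FactIM.{u}) : RowF.{u} (fun S => Spor.IsoM S) := by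
  intro S _ _ _ h p hp hd
  have hfp : Fact p.Prime := ⟨hp⟩
  have hcard : Nat.card S = 808017424794512875886459904961710757005754368000000000 := H816.IMM.card_eq h
  have hc : ¬ IsMulCommutative S := by
    intro hcc
    let _ : CommGroup S := { (inferInstance : Group S) with mul_comm := fun a b => hcc.is_comm.comm a b }
    have hpr : (Nat.card S).Prime := IsSimpleGroup.prime_card
    rw [hcard] at hpr
    norm_num at hpr
  have hmem := H816.IMM.prime_mem hp (by rw [← hcard]; exact hd)
  simp only [List.mem_cons, List.not_mem_nil, or_false] at hmem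
  rcases hmem with rfl | rfl | rfl | rfl | rfl | rfl | rfl | rfl | rfl | rfl | rfl | rfl | rfl | rfl | rfl
  · exact ⟨6, (dlLe_of_card' (a := 46) (by rw [hcard]; norm_num)).2.2.2 (by norm_num), many_m_two h⟩
  · exact ⟨4, (dlLe_of_card' (a := 20) (by rw [hcard]; norm_num)).2.1 (by norm_num), many_m_three h⟩
  · refine ⟨3, (dlLe_of_card' (a := 9) (by rw [hcard]; norm_num)).1 (by norm_num), ?_⟩
    have h1 := Many.of_finset (p := 5) (S := S) (D := {1109944460516150, 251098487132187500, 49609712911192813665}) ?_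
    · exact h1
    · intro d hd'
      simp only [Finset.mem_insert, Finset.mem_singleton] at hd'
      rcases hd' with rfl | rfl | rfl
      · exact ⟨by norm_num, by simpa using H816.IMM.exists_chi_1109944460516150 h⟩
      · exact ⟨by norm_num, by simpa using H816.IMM.exists_chi_251098487132187500 h⟩
      · exact ⟨by norm_num, by simpa using H816.IMM.exists_chi_49609712911192813665 h⟩
  · refine ⟨3, (dlLe_of_card' (a := 6) (by rw [hcard]; norm_num)).1 (by norm_num), ?_⟩
    have h1 := Many.of_finset (p := 7) (S := S) (D := {18538750076, 36173193327999, 1109944460516150}) ?_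
    · exact h1
    · intro d hd'
      simp only [Finset.mem_insert, Finset.mem_singleton] at hd'
      rcases hd' with rfl | rfl | rfl
      · exact ⟨by norm_num, by simpa using H816.IMM.exists_chi_18538750076 h⟩
      · exact ⟨by norm_num, by simpa using H816.IMM.exists_chi_36173193327999 h⟩
      · exact ⟨by norm_num, by simpa using H816.IMM.exists_chi_1109944460516150 h⟩
  · exact row_of_card I hc (by norm_num) hd (by rw [hcard]; norm_num)
  · exact row_of_dl_two T I hc hp hd (dlLe_two (a := 3) (by norm_num) (by rw [hcard]; norm_num))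
  all_goals exact row_of_card I hc (by norm_num) hd (by rw [hcard]; norm_num)

end Cfsg.Agent.H810.Dl
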