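import Cfsg.Agent.H810.Dl.Block
import Cfsg.Agent.H648.Loc.RowB
import Cfsg.Agent.H716.SplitAb
import Cfsg.Agent.H330.Gow

/-!
# A 2-block of the Baby Monster with at least three characters (helper810, task 2520)

`b_block` : the block of the Baby Monster induced from the block of `C(t)`, `t` of class 2A, of the extension of the Steinberg
character of `²E₆(2)`. At the elements of order 13 all its central characters are not in the local ideal.
-/

set_option autoImplicit false
set_option maxRecDepth 100000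

open Subgroup Cfsg Cfsg.Lie

namespace Cfsg.Agent.H810.Dl

open Cfsg.Agent.Blocks.LocalRing
open Cfsg.Agent.Blocks
open Cfsg.Agent.H652.Four
open Cfsg.Agent.H648.Loc

universe u

/-- `²E₆(2)` -/
theorem nnd_e6 (K : Type) [Field K] [Fintype K] (hK : Fintype.card K = 4) {M : Ideal AlgInt} (hM : IsPModular 2 M) :
    (∀ χ χ' : IrrCharacter ↥(twistedE6 K 2), ¬ 2 ∣ Nat.card ↥(twistedE6 K 2) / charDegree (χ : ↥(twistedE6 K 2) → ℂ) →
      ¬ 2 ∣ Nat.card ↥(twistedE6 K 2) / charDegree (χ' : ↥(twistedE6 K 2) → ℂ) → χ = χ') ∧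
    ∃ χ : IrrCharacter ↥(twistedE6 K 2), ¬ MemLocalIdeal M (om (ind ↥(twistedE6 K 2) 13) (χ : ↥(twistedE6 K 2) → ℂ)) ∧
      (charDegree (χ : ↥(twistedE6 K 2) → ℂ)).factorization 2 ≤ 36 ∧
      ¬ 2 ∣ Nat.card ↥(twistedE6 K 2) / charDegree (χ : ↥(twistedE6 K 2) → ℂ) := by
  have hcard : Nat.card ↥(twistedE6 K 2) = 76532479683774853939200 := card_e6 K hK
  have hfin : Finite ↥(twistedE6 K 2) := Nat.finite_of_card_ne_zero (by rw [hcard]; norm_num)
  have h13 : Fact (Nat.Prime 13) := ⟨by norm_num⟩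
  have h2 : Fact (Nat.Prime 2) := ⟨Nat.prime_two⟩
  have hs : IsSimpleGroup ↥(twistedE6 K 2) := (H897.Cas.simple hK).1
  have hch : CharP K 2 := by
    have hF : Fintype.card K = 2 ^ 2 := by rw [hK]; norm_num
    exact charP_of_card_eq_prime_pow hF
  have hL : IsLieTypeChar 2 ↥(twistedE6 K 2) :=
    Or.inr (Or.inr (Or.inr (Or.inr (Or.inr (Or.inr (Or.inr (Or.inl
      ⟨K, inferInstance, inferInstance, hch, 2, Nat.prime_two.isPrimePow, Or.inl ⟨by rw [hK]; norm_num,
        ⟨MulEquiv.refl _⟩⟩⟩)))))))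
  have hS := H716.SplitAb.hasSplitAb_of_lie Nat.prime_two hL
  refine ⟨fun χ χ' => Cfsg.Agent.H330.GowOne.unique_of_hasSplitAb hS
    (Cfsg.Agent.H330.Gow.perfect_of_split (Cfsg.Agent.H330.Gow.hasSplit_of_ab hS)) χ χ', ?_⟩
  obtain ⟨χ, hχ⟩ := nn_e6 K hK hM
  obtain ⟨x, hx⟩ := exists_prime_orderOf_dvd_card' (G := ↥(twistedE6 K 2)) 13 (by rw [hcard]; norm_num)
  obtain ⟨hcl, -⟩ := e6_class K hK hx
  obtain ⟨-, hc2⟩ := e6_cent hK hx
  have hχ' := hχ
  rw [← cl_eq_ind hx hcl, om_cl χ.2] at hχ'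
  have hidx := (centralizer ({x} : Set ↥(twistedE6 K 2))).card_mul_index
  rw [hcard] at hidx
  have h36 : 2 ^ 36 ∣ (centralizer ({x} : Set ↥(twistedE6 K 2))).index := by
    have h3 : 2 ^ 36 ∣ Nat.card (centralizer ({x} : Set ↥(twistedE6 K 2))) *
        (centralizer ({x} : Set ↥(twistedE6 K 2))).index := by
      rw [hidx]
      norm_num
    exact (Nat.Coprime.pow_left 36 ((Nat.Prime.coprime_iff_not_dvd Nat.prime_two).2 hc2)).dvd_of_dvd_mul_left h3
  have hd := dvd_charDegree hM hχ' h36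
  have hpos := Cfsg.Agent.Blocks.Basic.charDegree_pos χ.2
  have hdv := Cfsg.Agent.Blocks.Knorr.charDegree_dvd χ.2
  rw [hcard] at hdv
  refine ⟨χ, hχ, ?_, ?_⟩
  · by_contra hcon
    push Not at hcon
    have h4 : 2 ^ 37 ∣ charDegree (χ : ↥(twistedE6 K 2) → ℂ) :=
      (Nat.prime_two.pow_dvd_iff_le_factorization hpos.ne').2 hcon
    have h5 := h4.trans hdv
    norm_num at h5
  · rw [hcard]
    rintro ⟨j, hj⟩
    have h4 : 76532479683774853939200 = charDegree (χ : ↥(twistedE6 K 2) → ℂ) * (2 * j) := by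
      rw [← hj]
      exact (Nat.mul_div_cancel' hdv).symm
    obtain ⟨i, hi⟩ := hd
    rw [hi] at h4
    have h5 : 2 ^ 37 ∣ 76532479683774853939200 := ⟨i * j, by rw [h4]; ring⟩
    norm_num at h5

set_option maxHeartbeats 1000000 in
/-- **The block of the Baby Monster.** -/
theorem b_block {M : Ideal AlgInt} (hM : IsPModular 2 M) {x : Spor.BabyMonster} (hx : orderOf x = 13) :
    ∃ B : Set (IrrCharacter Spor.BabyMonster), 3 ≤ Nat.card B ∧
      (∀ χ ∈ B, ¬ MemLocalIdeal M (centralChar (χ : Spor.BabyMonster → ℂ) x)) ∧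
      ∃ χ ∈ B, (charDegree (χ : Spor.BabyMonster → ℂ)).factorization 2 ≤ 39 := by
  have hfin : Finite Spor.BabyMonster := CTwoTab.BInst.finite_B
  have h13 : Nat.Prime 13 := by norm_num
  obtain ⟨-, hone, -⟩ := b_main
  obtain ⟨K, iF, iT, hK, t, X₀, σ, D, -, hcard⟩ := CTwoTab.BInst.exists_sec
  have hcardE : Nat.card ↥(twistedE6 K 2) = 76532479683774853939200 := card_e6 K hK
  have hfinE : Finite ↥(twistedE6 K 2) := Nat.finite_of_card_ne_zero (by rw [hcardE]; norm_num)
  -- the centralizer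
  have hcc : centralizer ((zpowers t : Subgroup Spor.BabyMonster) : Set Spor.BabyMonster) =
      centralizer ({t} : Set Spor.BabyMonster) := by
    ext g
    rw [mem_centralizer_singleton_iff, mem_centralizer_iff]
    constructor
    · intro h
      exact (h t (mem_zpowers t)).symm
    · rintro h _ ⟨m, rfl⟩
      exact ((show Commute g t from h).zpow_right m).eq.symm
  have ht2 : orderOf t = 2 := orderOf_eq_prime (by rw [pow_two, D.t_sq]) D.t_ne
  have hP : IsPGroup 2 (zpowers t) := by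
    refine IsPGroup.of_card (n := 1) ?_
    rw [Nat.card_zpowers, pow_one]
    exact ht2
  obtain ⟨C, hC⟩ : ∃ C, C = centralizer ((zpowers t : Subgroup Spor.BabyMonster) : Set Spor.BabyMonster) := ⟨_, rfl⟩
  have hmem : ∀ g, g ∈ C ↔ g * t = t * g := fun g => by rw [hC, hcc, mem_centralizer_singleton_iff]
  have hPC : zpowers t ≤ C := by
    rw [zpowers_le, hmem]
  have hcardC : Nat.card C = 306129918735099415756800 := by rw [hC, hcc, hcard]
  have hle : X₀ ≤ C := fun m hm => (hmem m).2 (D.comm m hm)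
  -- the normal subgroup
  let N : Subgroup C := X₀.subgroupOf C
  have hN : N.Normal := by
    constructor
    intro n hn g
    exact D.nrm g ((hmem g).1 g.2) _ hn
  let e : N ≃* X₀ := subgroupOfEquivOfLe hle
  have he : ∀ n : N, ((e n : X₀) : Spor.BabyMonster) = ((n : C) : Spor.BabyMonster) := fun n => rfl
  let φ : N →* ↥(twistedE6 K 2) := σ.comp e.toMonoidHom
  have hφ : Function.Surjective φ := D.surj.comp e.surjective
  have hφ1 : ∀ n : N, φ n = 1 ↔ ((n : C) : Spor.BabyMonster) = 1 ∨ ((n : C) : Spor.BabyMonster) = t := fun n =>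
    D.ker (e n)
  have hker : ∀ (g : C) (n : N), φ n = 1 → φ ⟨g * n * g⁻¹, hN.conj_mem _ n.2 g⟩ = 1 := by
    intro g n hn
    rw [hφ1] at hn ⊢
    rcases hn with h | h
    · left
      show (g : Spor.BabyMonster) * ((n : C) : Spor.BabyMonster) * (g : Spor.BabyMonster)⁻¹ = 1
      rw [h]; group
    · right
      show (g : Spor.BabyMonster) * ((n : C) : Spor.BabyMonster) * (g : Spor.BabyMonster)⁻¹ = t
      rw [h, (hmem g).1 g.2]; group
  have hkc : φ.ker ≤ center N := by
    intro m hm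
    rw [MonoidHom.mem_ker, hφ1] at hm
    rw [mem_center_iff]
    intro g
    apply Subtype.ext
    apply Subtype.ext
    show ((g : C) : Spor.BabyMonster) * ((m : C) : Spor.BabyMonster) =
      ((m : C) : Spor.BabyMonster) * ((g : C) : Spor.BabyMonster)
    rcases hm with h | h
    · rw [h, mul_one, one_mul]
    · rw [h]
      exact (hmem _).1 (g : C).2
  have hk2 : IsPGroup 2 φ.ker := by
    intro m
    have hm := m.2
    rw [MonoidHom.mem_ker, hφ1] at hm
    refine ⟨1, Subtype.ext (Subtype.ext (Subtype.ext ?_))⟩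
    show (((m : N) : C) : Spor.BabyMonster) ^ 2 ^ 1 = 1
    rw [pow_one, pow_two]
    rcases hm with h | h
    · rw [h, mul_one]
    · rw [h, D.t_sq]
  -- orders and index
  have hkcard : Nat.card φ.ker = 2 := by
    have ht : t ∈ C := hle D.mem
    have htN : (⟨t, ht⟩ : C) ∈ N := D.mem
    have h1 : ∀ m : φ.ker, m = 1 ∨ m = ⟨⟨⟨t, ht⟩, htN⟩, (hφ1 _).2 (Or.inr rfl)⟩ := by
      intro m
      have hm := m.2
      rw [MonoidHom.mem_ker, hφ1] at hm
      rcases hm with h | h
      · exact Or.inl (Subtype.ext (Subtype.ext (Subtype.ext h)))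
      · exact Or.inr (Subtype.ext (Subtype.ext (Subtype.ext h)))
    rw [Nat.card_eq_two_iff]
    refine ⟨1, ⟨⟨⟨t, ht⟩, htN⟩, (hφ1 _).2 (Or.inr rfl)⟩, ?_, ?_⟩
    · intro h
      apply D.t_ne
      exact (congrArg (fun z : φ.ker => (((z : N) : C) : Spor.BabyMonster)) h).symm
    · ext m
      simp only [Set.mem_insert_iff, Set.mem_singleton_iff, Set.mem_univ, iff_true]
      exact h1 m
  have hNcard : Nat.card N = 153064959367549707878400 := by
    rw [← φ.ker.card_mul_index, index_ker, MonoidHom.range_eq_top.2 hφ, card_top, hkcard, hcardE]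
  have hNidx : N.index = 2 := by
    have h1 := N.card_mul_index
    rw [hNcard, hcardC] at h1
    omega
  have h13N : ∀ g : C, orderOf g = 13 → g ∈ N := by
    intro g hg
    have h4 : orderOf (QuotientGroup.mk g : C ⧸ N) ∣ 13 := by
      rw [← hg]
      exact orderOf_map_dvd (QuotientGroup.mk' _) g
    rcases (Nat.dvd_prime h13).1 h4 with h5 | h5
    · rw [orderOf_eq_one_iff, QuotientGroup.eq_one_iff] at h5
      exact h5
    · exfalso
      have h6 : orderOf (QuotientGroup.mk g : C ⧸ N) ∣ Nat.card (C ⧸ N) := orderOf_dvd_natCard _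
      rw [h5] at h6
      change 13 ∣ N.index at h6
      rw [hNidx] at h6
      norm_num at h6
  have hcyc : IsCyclic (C ⧸ N) := by
    have hf2 : Fact (Nat.Prime 2) := ⟨Nat.prime_two⟩
    exact isCyclic_of_prime_card (p := 2) hNidx
  -- the character
  obtain ⟨huniq, χ₀, h0, h36, hz⟩ := nnd_e6 K hK hM
  obtain ⟨ξ, hξ⟩ := exists_ext N φ hφ hker huniq hcyc χ₀ hz
  have hξd : charDegree (ξ : C → ℂ) = charDegree (χ₀ : ↥(twistedE6 K 2) → ℂ) := by
    have h1 := hξ 1
    rw [map_one] at h1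
    unfold charDegree
    rw [← h1]
    rfl
  have hnnd : NNd 2 36 M (ind C 13) := by
    refine ⟨ξ, ?_, by rw [hξd]; exact h36⟩
    rw [om_ind_sub N h13N (ξ : C → ℂ) (fun n => (χ₀ : ↥(twistedE6 K 2) → ℂ) (φ n)) hξ,
      om_ind_quot hφ hkc hk2 h13 (by norm_num)]
    exact h0
  have hk : 36 + 2 ≤ (Nat.card C).factorization 2 := by
    rw [hcardC]
    exact (Nat.prime_two.pow_dvd_iff_le_factorization (by norm_num)).1 (by norm_num)
  subst hC
  obtain ⟨B, hB3, hB, χ, hχ, hχd⟩ := block_cl hM hP hPC hx (fun y _ hy => hone x y hx hy) hk hnnd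
  refine ⟨B, hB3, hB, χ, hχ, ?_⟩
  have h1 : (Nat.card Spor.BabyMonster).factorization 2 < 42 := by
    by_contra hcon
    push Not at hcon
    have h2 := (Nat.prime_two.pow_dvd_iff_le_factorization (Nat.card_pos (α := Spor.BabyMonster)).ne').2 hcon
    rw [card_b] at h2
    norm_num at h2
  omega

end Cfsg.Agent.H810.Dl
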