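import Cfsg.Agent.H810.Dl.BabyBlock
import Cfsg.Agent.H810.Dl.Tool
import Cfsg.Agent.H648.Loc.RowM
import Cfsg.Agent.H816.IMM
import Cfsg.Agent.Blocks.ExistsModular
import Cfsg.Agent.S2085

/-!
# Six characters of even degree of the Monster (helper810, task 2520)

The characters of degrees `842609326`, `1109944460516150`, `47377503606648784400` and the members of the block induced from
the block of the double cover of the Baby Monster lying over `b_block`.
-/

set_option autoImplicit false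
set_option maxRecDepth 100000

open Subgroup Cfsg Cfsg.Lie

namespace Cfsg.Agent.H810.Dl

open Cfsg.Agent.Blocks.LocalRing
open Cfsg.Agent.Blocks
open Cfsg.Agent.H652.Four
open Cfsg.Agent.H648.Loc
open Cfsg.Agent.H454.DlCrit Cfsg.Agent.H246.Dl
open Cfsg.Agent.MonsterX.Model Cfsg.Agent.MonsterX.MainPack
  Cfsg.Agent.MonsterX.MainSimple Cfsg.Agent.MonsterX.MainBasic Cfsg.Agent.MonsterU.Assembly

universe u v

/-- the outer automorphism group along an isomorphism -/
theorem out_le_of_equiv {G : Type u} {Q : Type v} [Group G] [Group Q] [Finite G] [Finite Q] (e : G ≃* Q)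
    (h : Nat.card (OutQ Q) ≤ 1) : Nat.card (OutQ G) ≤ 1 := by
  refine card_out_of_inner fun σ => ?_
  have hsub : Subsingleton (OutQ Q) := Finite.card_le_one_iff_subsingleton.1 h
  let τ : MulAut Q := (e.symm.trans σ).trans e
  have h1 : (QuotientGroup.mk 1 : OutQ Q) = QuotientGroup.mk τ := Subsingleton.elim _ _
  rw [QuotientGroup.eq] at h1
  obtain ⟨q, hq⟩ := h1
  rw [inv_one, one_mul] at hq
  refine ⟨e.symm q, MulEquiv.ext fun g => ?_⟩
  have h2 := congrArg (fun f : MulAut Q => f (e g)) hq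
  have h3 : q * e g * q⁻¹ = e (σ (e.symm (e g))) := h2
  rw [e.symm_apply_apply] at h3
  have h4 := congrArg e.symm h3
  rw [map_mul, map_mul, map_inv, e.symm_apply_apply, e.symm_apply_apply] at h4
  exact h4.symm

/-- the double cover of the Baby Monster -/
theorem nnd_cover {H : Type u} [Group H] [Finite H] (h : Cfsg.IsNonsplitDoubleCover H Spor.BabyMonster)
    {M : Ideal AlgInt} (hM : IsPModular 2 M) :
    NNd 2 39 M (ind H 13) ∧ Nat.card H = 2 * 4154781481226426191177580544000000 := by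
  obtain ⟨hZ, ⟨e⟩, -⟩ := h
  have h13 : Nat.Prime 13 := by norm_num
  have hfin : Finite Spor.BabyMonster := CTwoTab.BInst.finite_B
  let φ : H →* Spor.BabyMonster := e.toMonoidHom.comp (QuotientGroup.mk' (center H))
  have hφ : Function.Surjective φ := e.surjective.comp (QuotientGroup.mk'_surjective _)
  have hker : φ.ker = center H := by
    ext x
    rw [MonoidHom.mem_ker]
    show e (QuotientGroup.mk x) = 1 ↔ _
    rw [map_eq_one_iff e e.injective, QuotientGroup.eq_one_iff]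
  have hk2 : IsPGroup 2 φ.ker := by
    rw [hker]
    exact IsPGroup.of_card (n := 1) (by rw [hZ, pow_one])
  obtain ⟨⟨x₁, hx₁⟩, hone, -⟩ := b_main
  obtain ⟨B, -, hB, χ, hχ, hχd⟩ := b_block hM hx₁
  constructor
  · refine NNd_ind_quot hφ hker.le hk2 h13 (by norm_num) ⟨χ, ?_, hχd⟩
    rw [← cl_eq_ind hx₁ (fun y hy => hone x₁ y hx₁ hy), om_cl χ.2]
    exact hB χ hχ
  · rw [← (center H).card_mul_index, hZ]
    congr 1
    rw [← card_b]
    exact Nat.card_congr e.toEquiv

/-- The block of `G` from the centralizer of an element `t` such that `C(t)` is a double cover of the Baby Monster. -/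
theorem m_block {G : Type u} [Group G] [Finite G] {t : G}
    (h : Cfsg.IsNonsplitDoubleCover (centralizer ({t} : Set G)) Spor.BabyMonster) {M : Ideal AlgInt} (hM : IsPModular 2 M) :
    ∃ x : G, orderOf x = 13 ∧ ∃ B : Set (IrrCharacter G), 3 ≤ Nat.card B ∧
      ∀ χ ∈ B, ¬ MemLocalIdeal M (centralChar (χ : G → ℂ) x) := by
  obtain ⟨⟨x, hx⟩, hone, -⟩ := cover_main h
  obtain ⟨hnnd, hcard⟩ := nnd_cover h hM
  refine ⟨x, by rw [Subgroup.orderOf_coe, hx], ?_⟩
  have htC : t ∈ centralizer ({t} : Set G) := mem_centralizer_singleton_iff.2 rfl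
  have hcc : centralizer ((zpowers t : Subgroup G) : Set G) = centralizer ({t} : Set G) := by
    ext g
    rw [mem_centralizer_singleton_iff, mem_centralizer_iff]
    constructor
    · intro h
      exact (h t (mem_zpowers t)).symm
    · rintro h _ ⟨m, rfl⟩
      exact ((show Commute g t from h).zpow_right m).eq.symm
  have ht2 : t ^ 2 = 1 := by
    have h1 : (⟨t, htC⟩ : centralizer ({t} : Set G)) ∈ center ↥(centralizer ({t} : Set G)) := by
      rw [mem_center_iff]
      intro g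
      exact Subtype.ext (mem_centralizer_singleton_iff.1 g.2)
    have h2 : (⟨⟨t, htC⟩, h1⟩ : center ↥(centralizer ({t} : Set G))) ^ 2 = 1 := by
      rw [← h.1]
      exact pow_card_eq_one'
    exact congrArg (fun z : center ↥(centralizer ({t} : Set G)) => ((z : ↥(centralizer ({t} : Set G))) : G)) h2
  have hP : IsPGroup 2 (zpowers t) := by
    rintro ⟨_, m, rfl⟩
    refine ⟨1, Subtype.ext ?_⟩
    show (t ^ m) ^ 2 ^ 1 = 1
    rw [pow_one, ← zpow_natCast, zpow_comm, zpow_natCast, ht2, one_zpow]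
  have hPC : zpowers t ≤ centralizer ((zpowers t : Subgroup G) : Set G) := by
    rw [hcc, zpowers_le]
    exact htC
  have hc : ∀ y : G, y ∈ centralizer ((zpowers t : Subgroup G) : Set G) → orderOf y = 13 → IsConj (x : G) y := by
    intro y hy hyo
    rw [hcc] at hy
    have h1 := hone x ⟨y, hy⟩ hx (by rw [← Subgroup.orderOf_coe]; exact hyo)
    exact (centralizer ({t} : Set G)).subtype.map_isConj h1
  have hk : 39 + 2 ≤ (Nat.card (centralizer ((zpowers t : Subgroup G) : Set G))).factorization 2 := by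
    rw [hcc, hcard]
    exact (Nat.prime_two.pow_dvd_iff_le_factorization (by norm_num)).1 (by norm_num)
  have hn : NNd 2 39 M (ind (centralizer ((zpowers t : Subgroup G) : Set G)) 13) := by
    rw [hcc]
    exact hnnd
  obtain ⟨B, hB3, hB, -⟩ := block_cl hM hP hPC (x := (x : G)) (r := 13) (by rw [Subgroup.orderOf_coe, hx]) hc hk hn
  exact ⟨B, hB3, hB⟩

/-- **Six characters of even degree of the Monster.** -/
theorem many_m_two {S : Type u} [Group S] [Finite S] (h : Cfsg.Spor.IsoM S) : Many 2 S 6 := by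
  obtain ⟨e⟩ := h
  obtain ⟨f⟩ := Cfsg.Agent.MonsterP.Equiv.equiv
  have A := Cfsg.Agent.MonsterU.Uncond.all
  have := G_finite A.hO
  have hfM : Finite Spor.Monster := Finite.of_equiv _ f.symm.toEquiv
  have hfI : Finite (IrrCharacter ↥Cfsg.Agent.MonsterX.InstData.M.G) := Cfsg.Agent.Characters.Core.finite_irr
  have hh : Cfsg.Spor.IsoM ↥Cfsg.Agent.MonsterX.InstData.M.G := ⟨f.symm⟩
  obtain ⟨M, hM⟩ := Cfsg.Agent.Blocks.Knorr.exists_isPModular 2
  obtain ⟨x, hx, B, hB3, hB⟩ := m_block (Cfsg.Agent.CTwoTab.MonsterOf.cover_t A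
    (Cfsg.Agent.MonsterP.NodesGrp.prel Cfsg.Agent.MonsterU.NodesU.hyp)
    (Cfsg.Agent.MonsterP.NodesNe.ne Cfsg.Agent.MonsterU.NodesU.hyp) Cfsg.Agent.MonsterU.NodesU.conj_ten
    Cfsg.Agent.S1704.result) hM
  have hidx := four_dvd_of_large (Cfsg.Agent.MonsterU.ModelChart.large A.hG A.hR A.hL A.hO A.hT)
    (by rw [Cfsg.Agent.H713.Spor.MOf.card_cent_z A.hG A.hR A.hL A.hO A.hT]; norm_num) (r := 13)
    (by norm_num) (by norm_num) hx
  have h4 : ∀ χ ∈ B, 4 ∣ charDegree (χ : ↥Cfsg.Agent.MonsterX.InstData.M.G → ℂ) := fun χ hχ => by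
    have h1 : 2 ^ 2 ∣ (centralizer ({x} : Set ↥Cfsg.Agent.MonsterX.InstData.M.G)).index := by
      norm_num
      exact hidx
    exact dvd_charDegree hM (hB χ hχ) h1
  obtain ⟨χ₁, i₁, h₁⟩ := H816.IMM.exists_chi_842609326 hh
  obtain ⟨χ₂, i₂, h₂⟩ := H816.IMM.exists_chi_47377503606648784400 hh
  obtain ⟨χ₃, i₃, h₃⟩ := H816.IMM.exists_chi_1109944460516150 hh
  obtain ⟨ψ₁, hψ₁⟩ : ∃ ψ : IrrCharacter ↥Cfsg.Agent.MonsterX.InstData.M.G, charDegree (ψ : ↥Cfsg.Agent.MonsterX.InstData.M.G → ℂ) = 842609326 :=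
    ⟨⟨χ₁, i₁⟩, H670.PSing.charDegree_eq_of (h₁.trans (by norm_num))⟩
  obtain ⟨ψ₂, hψ₂⟩ : ∃ ψ : IrrCharacter ↥Cfsg.Agent.MonsterX.InstData.M.G, charDegree (ψ : ↥Cfsg.Agent.MonsterX.InstData.M.G → ℂ) = 47377503606648784400 :=
    ⟨⟨χ₂, i₂⟩, H670.PSing.charDegree_eq_of (h₂.trans (by norm_num))⟩
  obtain ⟨ψ₃, hψ₃⟩ : ∃ ψ : IrrCharacter ↥Cfsg.Agent.MonsterX.InstData.M.G, charDegree (ψ : ↥Cfsg.Agent.MonsterX.InstData.M.G → ℂ) = 1109944460516150 :=
    ⟨⟨χ₃, i₃⟩, H670.PSing.charDegree_eq_of (h₃.trans (by norm_num))⟩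
  have n1 : ψ₁ ∉ B := fun h => by
    have := h4 _ h
    rw [hψ₁] at this
    norm_num at this
  have n3 : ψ₃ ∉ B := fun h => by
    have := h4 _ h
    rw [hψ₃] at this
    norm_num at this
  have n2 : ψ₂ ∉ B := fun h => by
    refine hB _ h (memLocalIdeal_of_zero hM (van (p := 13) (a := 3) (by norm_num) ψ₂ ?_ ?_ ?_))
    · rw [H816.IMM.card_eq hh]; norm_num
    · rw [hψ₂]; norm_num
    · rw [hx]
  have n12 : ψ₁ ≠ ψ₂ := fun h => by rw [h, hψ₂] at hψ₁; norm_num at hψ₁
  have n13 : ψ₁ ≠ ψ₃ := fun h => by rw [h, hψ₃] at hψ₁; norm_num at hψ₁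
  have n23 : ψ₂ ≠ ψ₃ := fun h => by rw [h, hψ₃] at hψ₂; norm_num at hψ₂
  have hout : Nat.card (OutQ ↥Cfsg.Agent.MonsterX.InstData.M.G) ≤ 1 := out_le_of_equiv f.symm (Cfsg.Agent.S2085.result).le
  have hmany : Many 2 ↥Cfsg.Agent.MonsterX.InstData.M.G 6 := by
    refine many_of_set hout (insert ψ₁ (insert ψ₂ (insert ψ₃ B))) ?_ ?_
    · intro χ hχ
      rcases hχ with rfl | rfl | rfl | h
      · rw [hψ₁]; norm_num
      · rw [hψ₂]; norm_num
      · rw [hψ₃]; norm_num
      · exact Dvd.dvd.trans (by norm_num) (h4 χ h)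
    · rw [Set.ncard_insert_of_notMem, Set.ncard_insert_of_notMem, Set.ncard_insert_of_notMem n3]
      · have : Nat.card B = B.ncard := rfl
        omega
      · rintro (h | h)
        · exact n23 h
        · exact n2 h
      · rintro (h | h | h)
        · exact n12 h
        · exact n13 h
        · exact n1 h
  exact hmany.of_equiv (e.trans f)

end Cfsg.Agent.H810.Dl
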